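import Mathlib.RingTheory.Filtration
import Mathlib.RingTheory.Finiteness.Ideal
import Mathlib.RingTheory.Localization.AtPrime.Basic
import Mathlib.RingTheory.Localization.Ideal
import Mathlib.RingTheory.Localization.Submodule
import Mathlib.RingTheory.Localization.Away.Basic
import Mathlib.RingTheory.Ideal.MinimalPrime.Basic

/-! Filtered families of ideals in a Noetherian ring which are adically zero at every prime. -/

set_option autoImplicit false

universe u v

namespace Groth.Agent.H06FilteredSub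

theorem exists_eq_bot {B : Type u} [CommRing B] [IsNoetherianRing B] {D : Type v} [Preorder D]
    [IsDirected D (fun a b => a ≤ b)] [Nonempty D] (J : D → Ideal B) (hJ : ∀ i j, i ≤ j → J j ≤ J i)
    (h : ∀ (P : Ideal B) [P.IsPrime] (n : ℕ), ∃ i,
      (J i).map (algebraMap B (Localization.AtPrime P)) ≤
        IsLocalRing.maximalIdeal (Localization.AtPrime P) ^ n) :
    ∃ i, J i = ⊥ := by
  obtain ⟨_, ⟨i₀, rfl⟩, hmax⟩ := set_has_maximal_iff_noetherian.2 (inferInstance : IsNoetherian B B)
    (Set.range fun i => Submodule.annihilator (J i)) (Set.range_nonempty _)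
  by_contra! hne
  let A := Submodule.annihilator (J i₀)
  have hA : A ≠ ⊤ := fun e => hne i₀ (Submodule.annihilator_eq_top_iff.1 e)
  obtain ⟨M, hM, hAM⟩ := Ideal.exists_le_maximal A hA
  obtain ⟨P, hP, -⟩ := Ideal.exists_minimalPrimes_le hAM
  haveI := hP.1.1
  let R := Localization.AtPrime P
  let φ := algebraMap B R
  haveI : IsNoetherianRing R := IsLocalization.isNoetherianRing P.primeCompl R inferInstance
  obtain ⟨k, hk⟩ : ∃ k, IsLocalRing.maximalIdeal R ^ k ≤ A.map φ := by
    have hrad : IsLocalRing.maximalIdeal R ≤ (A.map φ).radical := by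
      rw [Ideal.radical_eq_sInf]
      refine le_sInf fun Q hQ => ?_
      haveI := hQ.2
      have hdisj := (IsLocalization.AtPrime.orderIsoOfPrime R P ⟨Q, hQ.2⟩).2.2
      have hle : Q.comap φ ≤ P := hdisj
      have h2 : P ≤ Q.comap φ := hP.2 ⟨inferInstance, Ideal.map_le_iff_le_comap.1 hQ.1⟩ hle
      rw [← Localization.AtPrime.map_eq_maximalIdeal]
      exact Ideal.map_le_iff_le_comap.2 h2
    exact Ideal.exists_pow_le_of_le_radical_of_fg hrad (IsNoetherian.noetherian _)
  obtain ⟨c, hc⟩ := Ideal.exists_pow_inf_eq_pow_smul (IsLocalRing.maximalIdeal R) ((J i₀).map φ : Submodule R R)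
  obtain ⟨i₁, hi₁⟩ := h P (k + c)
  obtain ⟨j, hj₀, hj₁⟩ := exists_ge_ge i₀ i₁
  have hkill : A.map φ * (J i₀).map φ = ⊥ := by
    rw [← Ideal.map_mul, Submodule.annihilator_mul, Ideal.map_bot]
  have hzero : (J j).map φ = ⊥ := by
    refine le_bot_iff.1 ((le_inf ((Ideal.map_mono (hJ _ _ hj₁)).trans hi₁) (Ideal.map_mono (hJ _ _ hj₀))).trans ?_)
    have e := hc (k + c) (Nat.le_add_left _ _)
    rw [Nat.add_sub_cancel] at e
    intro x hx
    have hx' : x ∈ IsLocalRing.maximalIdeal R ^ (k + c) • (⊤ : Submodule R R) ⊓ (J i₀).map φ := by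
      refine ⟨?_, hx.2⟩
      simpa using hx.1
    rw [e] at hx'
    have hle : IsLocalRing.maximalIdeal R ^ k •
        (IsLocalRing.maximalIdeal R ^ c • (⊤ : Submodule R R) ⊓ (J i₀).map φ) ≤ (⊥ : Submodule R R) :=
      (Submodule.smul_mono hk inf_le_right).trans (by rw [smul_eq_mul, hkill])
    exact hle hx'
  -- a single denominator kills `J j`
  have hle : A ≤ Submodule.annihilator (J j) := Submodule.annihilator_mono (hJ _ _ hj₀)
  have heq : Submodule.annihilator (J j) ≤ A := by
    rcases hle.eq_or_lt with e | e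
    · exact e.ge
    · exact absurd e (hmax _ ⟨j, rfl⟩)
  obtain ⟨s, hs⟩ := IsNoetherian.noetherian (J j)
  have hs' : ∀ x ∈ s, ∃ t : P.primeCompl, (t : B) * x = 0 := fun x hx => by
    have hxJ : φ x = 0 := by
      have : φ x ∈ (J j).map φ := Ideal.mem_map_of_mem φ (hs ▸ Ideal.subset_span hx)
      rw [hzero] at this
      exact this
    exact (IsLocalization.map_eq_zero_iff P.primeCompl R x).1 hxJ
  choose t ht using hs'
  let T : P.primeCompl := ∏ x : s, t x.1 x.2
  refine T.2 (hP.1.2 (heq ?_))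
  rw [← hs, Submodule.annihilator_span]
  simp only [Submodule.mem_iInf, LinearMap.mem_ker, LinearMap.toSpanSingleton_apply]
  intro x
  obtain ⟨u, hu⟩ := Finset.dvd_prod_of_mem (fun x : s => t x.1 x.2) (Finset.mem_univ x)
  show (T : B) * (x : B) = 0
  rw [show T = t x.1 x.2 * u from hu, Submonoid.coe_mul, mul_right_comm, ht x.1 x.2, zero_mul]

end Groth.Agent.H06FilteredSub
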