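import Groth.Agent.H06FilteredSub.Ring
import Mathlib.AlgebraicGeometry.Stalk
import Mathlib.AlgebraicGeometry.Noetherian
import Mathlib.AlgebraicGeometry.Morphisms.ClosedImmersion
import Mathlib.AlgebraicGeometry.Morphisms.Immersion
import Mathlib.AlgebraicGeometry.IdealSheaf.Subscheme
import Mathlib.RingTheory.Localization.AtPrime.Basic

/-! Filtered families of subschemes of a Noetherian scheme containing all infinitesimal fibres. -/

set_option autoImplicit false
set_option linter.style.haveILetI false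
set_option backward.isDefEq.respectTransparency false

universe u

open CategoryTheory CategoryTheory.Limits AlgebraicGeometry TopologicalSpace Opposite

namespace Groth.Agent.H06FilteredSub

variable {S X : Scheme.{u}} (f : X ⟶ S) {D : Type u} [Preorder D] [IsDirected D (fun a b => a ≤ b)]
  [Nonempty D] {Xi : D → Scheme.{u}} (x : ∀ i, Xi i ⟶ X)

/-- Eventually the subschemes contain every point. -/
theorem exists_surjective [NoetherianSpace X]
    (hx : ∀ i, IsImmersion (x i)) (hmono : ∀ i j, i ≤ j → ∃ t : Xi i ⟶ Xi j, t ≫ x j = x i)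
    (hpt : ∀ p : X, ∃ i, p ∈ Set.range (x i)) : ∃ i, Surjective (x i) := by
  have hsub : ∀ i j, i ≤ j → Set.range (x i) ⊆ Set.range (x j) := by
    rintro i j hij _ ⟨w, rfl⟩
    obtain ⟨t, ht⟩ := hmono i j hij
    exact ⟨t w, by rw [← Scheme.Hom.comp_apply, ht]⟩
  suffices h : ∀ C : Closeds X, ∃ i, (C : Set X) ⊆ Set.range (x i) by
    obtain ⟨i, hi⟩ := h ⊤
    exact ⟨i, ⟨fun p => hi (Set.mem_univ p)⟩⟩
  intro C
  induction C using WellFoundedLT.induction with
  | _ C ih =>
  obtain ⟨F, hF, hirr, hC⟩ := NoetherianSpace.exists_finite_set_closeds_irreducible C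
  have hZ : ∀ Z ∈ F, ∃ i, (Z : Set X) ⊆ Set.range (x i) := by
    intro Z hZF
    have hZC : Z ≤ C := hC ▸ le_sSup hZF
    obtain ⟨z, hz⟩ := QuasiSober.sober (hirr _ hZF : IsIrreducible (Z : Set X)) Z.2
    obtain ⟨i, hi⟩ := hpt z
    haveI := hx i
    obtain ⟨U, K, hU, hK, hr⟩ := (x i).isLocallyClosed_range
    rw [hr] at hi
    have hZK : (Z : Set X) ⊆ K := by
      intro w hw; exact (hz.specializes hw).mem_closed hK hi.2
    obtain ⟨j, hj⟩ := ih ⟨(Z : Set X) \ U, Z.2.sdiff hU⟩ (lt_of_le_of_ne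
      (fun w hw => hZC hw.1) fun e => by
        have : z ∈ (C : Set X) := hZC hz.mem
        rw [← e] at this
        exact this.2 hi.1)
    obtain ⟨k, hik, hjk⟩ := exists_ge_ge i j
    refine ⟨k, fun w hw => ?_⟩
    by_cases hwU : w ∈ U
    · exact hsub i k hik (hr.ge ⟨hwU, hZK hw⟩)
    · exact hsub j k hjk (hj ⟨hw, hwU⟩)
  classical
  choose! iZ hiZ using hZ
  obtain ⟨k, hk⟩ := Finset.exists_le (hF.toFinset.image iZ)
  refine ⟨k, fun w hw => ?_⟩
  rw [hC, Closeds.coe_sSup] at hw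
  rw [Set.sUnion_image, IsClosed.closure_eq (hF.isClosed_biUnion (f := fun a : Closeds X => (a : Set X)) (fun Z _ => Z.2))] at hw
  obtain ⟨Z, hZF, hwZ⟩ := Set.mem_iUnion₂.1 hw
  exact hsub _ k (hk _ (Finset.mem_image_of_mem _ (hF.mem_toFinset.2 hZF))) (hiZ Z hZF hwZ)

/-- The ideals of the subschemes eventually vanish. -/
theorem exists_isIso [IsNoetherian X] (hx : ∀ i, IsImmersion (x i))
    (hmono : ∀ i j, i ≤ j → ∃ t : Xi i ⟶ Xi j, t ≫ x j = x i)
    (h : ∀ (s : S) (n : ℕ), ∃ i : D,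
      IsIso (pullback.snd (x i) (pullback.fst f
        (Spec.map (CommRingCat.ofHom (Ideal.Quotient.mk
          (IsLocalRing.maximalIdeal (S.presheaf.stalk s) ^ (n + 1)))) ≫ S.fromSpecStalk s)))) :
    ∃ i : D, IsIso (x i) := by
  -- factorisation of infinitesimal points
  have hfac : ∀ (p : X) (n : ℕ), ∃ (i : D)
      (ρ : Spec (CommRingCat.of (X.presheaf.stalk p ⧸ IsLocalRing.maximalIdeal (X.presheaf.stalk p) ^ (n + 1))) ⟶ Xi i),
      ρ ≫ x i = Spec.map (CommRingCat.ofHom (Ideal.Quotient.mk _)) ≫ X.fromSpecStalk p := by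
    intro p n
    obtain ⟨i, hi⟩ := h (f p) n
    let μ := Ideal.Quotient.mk (IsLocalRing.maximalIdeal (X.presheaf.stalk p) ^ (n + 1))
    let ν := Ideal.Quotient.mk (IsLocalRing.maximalIdeal (S.presheaf.stalk (f p)) ^ (n + 1))
    let φ := Ideal.quotientMap (I := IsLocalRing.maximalIdeal (S.presheaf.stalk (f p)) ^ (n + 1))
      (IsLocalRing.maximalIdeal (X.presheaf.stalk p) ^ (n + 1)) (f.stalkMap p).hom (by
        rw [← Ideal.map_le_iff_le_comap, Ideal.map_pow]
        haveI : IsLocalHom (f.stalkMap p).hom := inferInstance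
        exact Ideal.pow_right_mono (((IsLocalRing.local_hom_TFAE (f.stalkMap p).hom).out 0 2).1 ‹_›) _)
    have hw : (Spec.map (CommRingCat.ofHom μ) ≫ X.fromSpecStalk p) ≫ f =
        Spec.map (CommRingCat.ofHom φ) ≫ Spec.map (CommRingCat.ofHom ν) ≫ S.fromSpecStalk (f p) := by
      rw [Category.assoc, ← Scheme.SpecMap_stalkMap_fromSpecStalk, ← Spec.map_comp_assoc,
        ← Spec.map_comp_assoc]
      congr 2
    let σ := pullback.lift (Spec.map (CommRingCat.ofHom μ) ≫ X.fromSpecStalk p)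
      (Spec.map (CommRingCat.ofHom φ)) hw
    haveI := hi
    refine ⟨i, σ ≫ inv (pullback.snd (x i) (pullback.fst f (Spec.map (CommRingCat.ofHom ν) ≫
      S.fromSpecStalk (f p)))) ≫ pullback.fst _ _, ?_⟩
    rw [Category.assoc, Category.assoc, pullback.condition, IsIso.inv_hom_id_assoc, pullback.lift_fst]
  have hpt : ∀ p : X, ∃ i, p ∈ Set.range (x i) := fun p => by
    obtain ⟨i, ρ, hρ⟩ := hfac p 0
    haveI : Nontrivial (X.presheaf.stalk p ⧸ IsLocalRing.maximalIdeal (X.presheaf.stalk p) ^ (0 + 1)) := by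
      rw [zero_add, pow_one]
      infer_instance
    obtain ⟨q⟩ : Nonempty (PrimeSpectrum
      (X.presheaf.stalk p ⧸ IsLocalRing.maximalIdeal (X.presheaf.stalk p) ^ (0 + 1))) := inferInstance
    refine ⟨i, ρ q, ?_⟩
    rw [← Scheme.Hom.comp_apply, hρ, Scheme.Hom.comp_apply]
    have hcl : Spec.map (CommRingCat.ofHom (Ideal.Quotient.mk
        (IsLocalRing.maximalIdeal (X.presheaf.stalk p) ^ (0 + 1)))) q =
          IsLocalRing.closedPoint (X.presheaf.stalk p) := by
      refine PrimeSpectrum.ext ((IsLocalRing.maximalIdeal.isMaximal _).eq_of_le ?_ ?_).symm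
      · exact (PrimeSpectrum.comap (Ideal.Quotient.mk _) q).2.ne_top
      · intro a ha
        show Ideal.Quotient.mk _ a ∈ q.asIdeal
        rw [Ideal.Quotient.eq_zero_iff_mem.2 (by rwa [zero_add, pow_one])]
        exact q.asIdeal.zero_mem
    exact (congrArg (X.fromSpecStalk p) hcl).trans Scheme.fromSpecStalk_closedPoint
  obtain ⟨i₀, hi₀⟩ := exists_surjective x hx hmono hpt
  let D' := {i : D // i₀ ≤ i}
  haveI : Nonempty D' := ⟨⟨i₀, le_rfl⟩⟩
  haveI : IsDirected D' (fun a b => a ≤ b) := ⟨fun a b => by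
    obtain ⟨c, hac, hbc⟩ := exists_ge_ge a.1 b.1
    exact ⟨⟨c, a.2.trans hac⟩, hac, hbc⟩⟩
  have hcl : ∀ i : D', IsClosedImmersion (x i) := fun i => by
    haveI := hx i.1
    refine IsClosedImmersion.of_isPreimmersion _ ?_
    obtain ⟨t, ht⟩ := hmono i₀ i.1 i.2
    have : Set.range (x i.1) = Set.univ := Set.eq_univ_of_forall fun p => by
      obtain ⟨w, hw⟩ := hi₀.surj p
      exact ⟨t w, by rw [← Scheme.Hom.comp_apply, ht, hw]⟩
    rw [this]
    exact isClosed_univ
  have hker : ∀ i j : D', i ≤ j → (x j).ker ≤ (x i).ker := fun i j hij => by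
    obtain ⟨t, ht⟩ := hmono i.1 j.1 hij
    rw [← ht]
    exact t.le_ker_comp (x j.1)
  have hloc : ∀ U : X.affineOpens, ∃ i : D', (x i).ker.ideal U = ⊥ := by
    intro U
    haveI : IsNoetherianRing Γ(X, U) := IsLocallyNoetherian.component_noetherian U
    refine exists_eq_bot (D := D') (fun i => (x i).ker.ideal U) (fun i j hij => hker i j hij U) ?_
    intro P hP n
    let p : X := U.2.fromSpec (⟨P, hP⟩ : PrimeSpectrum _)
    have hpU : p ∈ (U : X.Opens) := by rw [← SetLike.mem_coe, ← U.2.range_fromSpec]; exact ⟨_, rfl⟩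
    obtain ⟨i, ρ, hρ⟩ := hfac p n
    obtain ⟨j, hij, hj₀⟩ := exists_ge_ge i i₀
    obtain ⟨t, ht⟩ := hmono i j hij
    refine ⟨⟨j, hj₀⟩, ?_⟩
    haveI := hcl ⟨j, hj₀⟩
    -- sections in the ideal vanish in the truncated stalk
    have key : ∀ b ∈ (x j).ker.ideal U,
        X.presheaf.germ U p hpU b ∈ IsLocalRing.maximalIdeal (X.presheaf.stalk p) ^ (n + 1) := by
      intro b hb
      rw [Scheme.Hom.ker_apply, RingHom.mem_ker] at hb
      let μ := CommRingCat.ofHom (Ideal.Quotient.mk (IsLocalRing.maximalIdeal (X.presheaf.stalk p) ^ (n + 1)))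
      have he : (ρ ≫ t) ≫ x j = Spec.map μ ≫ X.fromSpecStalk p := by
        rw [Category.assoc, ht, hρ]
      have h1 : ((ρ ≫ t) ≫ x j).app U b = 0 := by
        rw [Scheme.Hom.comp_app, CommRingCat.comp_apply, hb, map_zero]
      have h2 : (Spec.map μ ≫ X.fromSpecStalk p).app U b = 0 := by
        rw [Scheme.Hom.congr_app he.symm U, CommRingCat.comp_apply, h1, map_zero]
      rw [Scheme.Hom.comp_app, CommRingCat.comp_apply, Scheme.fromSpecStalk_app hpU,
        CommRingCat.comp_apply, CommRingCat.comp_apply] at h2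
      have hnat := congr($((Spec.map μ).naturality (homOfLE (le_top :
        X.fromSpecStalk p ⁻¹ᵁ (U : X.Opens) ≤ ⊤)).op) ((Scheme.ΓSpecIso _).inv (X.presheaf.germ U p hpU b)))
      simp only [CommRingCat.comp_apply] at hnat
      erw [hnat] at h2
      have htop : X.fromSpecStalk p ⁻¹ᵁ (U : X.Opens) = ⊤ :=
        eq_top_iff.2 fun q _ => ((Scheme.range_fromSpecStalk (x := p)).le ⟨q, rfl⟩).mem_open (U : X.Opens).2 hpU
      have hinj : ∀ {V W : (Spec (CommRingCat.of (X.presheaf.stalk p ⧸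
          IsLocalRing.maximalIdeal (X.presheaf.stalk p) ^ (n + 1)))).Opens} (e : op V ⟶ op W), V = W →
          Function.Injective ((Spec _).presheaf.map e) := by
        rintro V W e rfl
        rw [show e = 𝟙 _ from Subsingleton.elim _ _, CategoryTheory.Functor.map_id]
        exact fun _ _ h => h
      have h3 := hinj _ (by rw [htop]) (h2.trans (map_zero _).symm)
      have h4 : (Scheme.ΓSpecIso _).inv (μ (X.presheaf.germ U p hpU b)) = 0 := by
        rw [← CommRingCat.comp_apply, Scheme.ΓSpecIso_inv_naturality, CommRingCat.comp_apply]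
        exact h3
      exact Ideal.Quotient.eq_zero_iff_mem.1 ((ConcreteCategory.bijective_of_isIso
        (Scheme.ΓSpecIso _).inv).1 (h4.trans (map_zero _).symm))
    letI : Algebra Γ(X, U) (X.presheaf.stalk p) := (X.presheaf.germ U p hpU).hom.toAlgebra
    haveI : IsLocalization.AtPrime (X.presheaf.stalk p) P := by
      have h := U.2.isLocalization_stalk ⟨p, hpU⟩
      have e : (U.2.primeIdealOf ⟨p, hpU⟩).asIdeal = P := congrArg PrimeSpectrum.asIdeal
        (U.2.fromSpec.isOpenEmbedding.injective (U.2.fromSpec_primeIdealOf ⟨p, hpU⟩) :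
          U.2.primeIdealOf ⟨p, hpU⟩ = (⟨P, hP⟩ : PrimeSpectrum _))
      simp only [e] at h
      exact h
    let ψ := IsLocalization.algEquiv P.primeCompl (X.presheaf.stalk p) (Localization.AtPrime P)
    rw [Ideal.map_le_iff_le_comap]
    intro b hb
    haveI hmax : ((IsLocalRing.maximalIdeal (X.presheaf.stalk p)).map ψ.toRingEquiv).IsMaximal :=
      Ideal.map_isMaximal_of_equiv ψ.toRingEquiv
    have h5 := Ideal.mem_map_of_mem ψ.toRingEquiv (Ideal.pow_le_pow_right (Nat.le_succ n) (key b hb))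
    rw [Ideal.map_pow, IsLocalRing.eq_maximalIdeal hmax] at h5
    have h6 : ψ (X.presheaf.germ U p hpU b) = algebraMap _ (Localization.AtPrime P) b := ψ.commutes b
    rw [Ideal.mem_comap, ← h6]
    exact h5
  obtain ⟨s, hs⟩ := isCompact_univ.elim_finite_subcover (fun U : X.affineOpens => ((U : X.Opens) : Set X))
    (fun U => (U : X.Opens).2) (fun q _ => by
      obtain ⟨U, hU, hq, -⟩ := exists_isAffineOpen_mem_and_subset (U := (⊤ : X.Opens)) (x := q) trivial
      exact Set.mem_iUnion.2 ⟨⟨U, hU⟩, hq⟩)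
  classical
  choose k hk using hloc
  obtain ⟨j, hj⟩ := Finset.exists_le (s.image k)
  refine ⟨j.1, ?_⟩
  haveI := hcl j
  rw [IsClosedImmersion.isIso_iff_ker_eq_bot]
  refine Scheme.IdealSheafData.ext_of_iSup_eq_top (fun U : s => (U : X.affineOpens)) ?_ fun U => ?_
  · refine eq_top_iff.2 fun q _ => ?_
    obtain ⟨U, hUs, hq⟩ := Set.mem_iUnion₂.1 (hs (Set.mem_univ q))
    exact Opens.mem_iSup.2 ⟨⟨U, hUs⟩, hq⟩
  · rw [Scheme.IdealSheafData.ideal_bot]
    exact le_bot_iff.1 ((hker (k U) j (hj _ (Finset.mem_image_of_mem _ U.2)) U).trans (hk U).le)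

end Groth.Agent.H06FilteredSub
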